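import Groth.Agent.Lib.CI2.TorPoly
import Mathlib.RingTheory.Unramified.Finite
import Mathlib.RingTheory.RingHom.StandardSmooth
import Mathlib.RingTheory.Etale.Basic
import Mathlib.RingTheory.Smooth.Flat
import Mathlib.RingTheory.Localization.Basic
import Mathlib.RingTheory.MvPolynomial.Localization

/-! # Tor dimension over a smooth algebra -/

set_option autoImplicit false
set_option linter.style.haveILetI false

universe u

open TensorProduct

namespace Groth.Agent.TorSmooth9

/-- Tor dimension does not grow along a flat unramified algebra. -/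
theorem torDim_of_unramified {P S : Type u} [CommRing P] [CommRing S] [Algebra P S] [Module.Flat P S]
    [Algebra.FormallyUnramified P S] [Algebra.EssFiniteType P S] :
    ∀ (d : ℕ) (M : Type u) [AddCommGroup M] [Module P M] [Module S M] [IsScalarTower P S M],
      DRing.HasTorDimLE P d M → DRing.HasTorDimLE S d M := by
  intro d
  induction d with
  | zero =>
    intro M _ _ _ _ h
    haveI := (Groth.Agent.TorBal.flat_iff_hasTorDimLE_zero M).1 h
    exact (Groth.Agent.TorBal.flat_iff_hasTorDimLE_zero M).2 (Algebra.FormallyUnramified.flat_of_restrictScalars P S M)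
  | succ d ih =>
    intro M _ _ _ _ h
    let p : (M →₀ S) →ₗ[S] M := Finsupp.linearCombination S id
    have hp : Function.Surjective p := Finsupp.linearCombination_id_surjective S M
    haveI : Module.Flat P (M →₀ S) := Module.Flat.trans P S (M →₀ S)
    let K := LinearMap.ker p
    have hK : DRing.HasTorDimLE P d K := (Groth.Agent.TorAscH7.hasTorDimLE_succ_iff (K.subtype.restrictScalars P)
      K.injective_subtype (p.restrictScalars P) (LinearMap.exact_subtype_ker_map p) hp d).1 h
    exact (Groth.Agent.TorAscH7.hasTorDimLE_succ_iff K.subtype K.injective_subtype p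
      (LinearMap.exact_subtype_ker_map p) hp d).2 (ih K hK)

/-- Over a localisation of a standard smooth algebra tor dimension grows by at most the number of variables. -/
theorem exists_torDim_of_smooth_local {A A' U B : Type u} [CommRing A] [CommRing A'] [CommRing U] [CommRing B]
    [Algebra A A'] (S₁ : Submonoid A) [IsLocalization S₁ A'] [Algebra U B] (S₂ : Submonoid U) [IsLocalization S₂ B]
    (f : A →+* U) (hf : f.IsStandardSmooth) (ψ : A' →+* B)
    (hψ : ψ.comp (algebraMap A A') = (algebraMap U B).comp f) :
    ∃ n : ℕ, ∀ (d : ℕ) (M : Type u) [AddCommGroup M] [Module B M]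
      (_ : letI := Module.compHom M ψ; DRing.HasTorDimLE A' d M), DRing.HasTorDimLE B (d + n) M := by
  obtain ⟨n, g, hgC, hg⟩ := hf.exists_etale_mvPolynomial
  letI := g.toAlgebra
  haveI : Algebra.Etale (MvPolynomial (Fin n) A) U := RingHom.etale_algebraMap.1 hg
  letI : Algebra (MvPolynomial (Fin n) A) B := ((algebraMap U B).comp g).toAlgebra
  haveI : IsScalarTower (MvPolynomial (Fin n) A) U B := IsScalarTower.of_algebraMap_eq fun _ => rfl
  let g' : MvPolynomial (Fin n) A' →+* B := MvPolynomial.eval₂Hom ψ fun i => algebraMap U B (g (MvPolynomial.X i))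
  letI := g'.toAlgebra
  letI : Algebra (MvPolynomial (Fin n) A) (MvPolynomial (Fin n) A') := (MvPolynomial.map (algebraMap A A')).toAlgebra
  haveI : IsLocalization (S₁.map (MvPolynomial.C (σ := Fin n) : A →+* _)) (MvPolynomial (Fin n) A') :=
    MvPolynomial.isLocalization S₁ A'
  haveI : IsScalarTower (MvPolynomial (Fin n) A) (MvPolynomial (Fin n) A') B := by
    refine IsScalarTower.of_algebraMap_eq' ?_
    refine MvPolynomial.ringHom_ext (fun a => ?_) (fun i => ?_)
    · show algebraMap U B (g (MvPolynomial.C a)) = g' (MvPolynomial.map (algebraMap A A') (MvPolynomial.C a))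
      rw [MvPolynomial.map_C, show g (MvPolynomial.C a) = f a from RingHom.congr_fun hgC a]
      simp only [g', MvPolynomial.eval₂Hom_C]
      exact (RingHom.congr_fun hψ a).symm
    · show algebraMap U B (g (MvPolynomial.X i)) = g' (MvPolynomial.map (algebraMap A A') (MvPolynomial.X i))
      rw [MvPolynomial.map_X]
      simp only [g', MvPolynomial.eval₂Hom_X']
  haveI : Module.Flat U B := IsLocalization.flat B S₂
  haveI : Module.Flat (MvPolynomial (Fin n) A) B := Module.Flat.trans (MvPolynomial (Fin n) A) U B
  haveI : Module.Flat (MvPolynomial (Fin n) A') B :=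
    (Module.flat_iff_of_isLocalization (MvPolynomial (Fin n) A') (S₁.map (MvPolynomial.C (σ := Fin n) : A →+* _)) B).2 inferInstance
  haveI : Algebra.FormallyUnramified U B := Algebra.FormallyUnramified.of_isLocalization S₂
  haveI : Algebra.FormallyUnramified (MvPolynomial (Fin n) A) B := Algebra.FormallyUnramified.comp _ U _
  haveI : Algebra.FormallyUnramified (MvPolynomial (Fin n) A') B :=
    Algebra.FormallyUnramified.of_restrictScalars (MvPolynomial (Fin n) A) _ _
  haveI : Algebra.EssFiniteType U B := Algebra.EssFiniteType.of_isLocalization B S₂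
  haveI : Algebra.EssFiniteType (MvPolynomial (Fin n) A) B := Algebra.EssFiniteType.comp _ U _
  haveI : Algebra.EssFiniteType (MvPolynomial (Fin n) A') B :=
    Algebra.EssFiniteType.of_comp (MvPolynomial (Fin n) A) _ _
  refine ⟨n, fun d M _ _ h => ?_⟩
  letI : Module A' M := Module.compHom M ψ
  letI : Module (MvPolynomial (Fin n) A') M := Module.compHom M g'
  haveI : IsScalarTower (MvPolynomial (Fin n) A') B M := IsScalarTower.of_algebraMap_smul fun _ _ => rfl
  haveI : IsScalarTower A' (MvPolynomial (Fin n) A') M := IsScalarTower.of_algebraMap_smul fun a m => by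
    show g' (MvPolynomial.C a) • m = ψ a • m
    simp only [g', MvPolynomial.eval₂Hom_C]
  exact torDim_of_unramified (d + n) M (CI2.torDim_mvPolynomial n d M h)

end Groth.Agent.TorSmooth9
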